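import Groth.Agent.Neron.K487.PicHon
import Groth.Agent.Neron.K488.Comp
import Groth.Prelude.Def_SGA7IX
import Groth.Agent.Sga7.H732.Reg
import Groth.Agent.Sga4B.GoodNbhd2

/-!
# Points of the Jacobian over a separable closure as honest classes, and the Galois action

`g : C ⟶ Spec K` proper and smooth, `Ω` a separable closure of `K`, `(J, φ)` the fppf-sheafified `Pic⁰`.
* `exists_class`: every `T`-point of `J` (`T` over `S'`) comes from an invertible module on `C ×_S T`, if `C ×_S S'` is the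
  disjoint union of schemes with good sections.
* `eq_of_phi`: classes on `C_Ω` with the same point are equal.
* `levelTwo`: level two of the torsion points from level two of `Pic(C_Ω)`.
-/

set_option autoImplicit false
universe v u

open CategoryTheory CategoryTheory.Limits AlgebraicGeometry TopologicalSpace Opposite
open Groth.Agent Groth.Agent.Grpsch Groth.Agent.Grpsch.PicGrp
open Groth.Agent.Fga.RigGrp (Rg mem_Rg pull_mem norm norm_mem norm_apply pull_norm norm_of_mem toCl toCl_injective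
  isInvertibleCl_toCl exists_toCl toCl_pull secT_XTproj norm_pull_XTproj XTmap_comp XTmap_id XTmap_fst XTmap_XTproj)
open Groth.Agent.Pic13.H602.Rig (Inj)
open K530.PicZero (exists_toCl_of_isPicZeroCl isPicZeroCl_pullCl isPicZeroCl_toCl_iff)
open K488.Psi

namespace K487.JacPts

section gen

variable {S S' C : Scheme.{u}} {σ : S' ⟶ S} {g : C ⟶ S} {J : Over S}
  {φ : ∀ T : Over S, PicF.Cl (PicF.XT g T) → (T ⟶ J)}
  (hP : AbDual.IsRelPicZeroK Scheme.fppfPrecoverage g J φ)
  {ι : Type u} [Finite ι] {D : ι → Scheme.{u}} {f : ∀ i, D i ⟶ S'} {q : ∀ i, D i ⟶ C}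
  (hq : ∀ i, q i ≫ g = f i ≫ σ) {x : ∀ i, S' ⟶ D i} (hx : ∀ i, x i ≫ f i = 𝟙 S') (hI : ∀ i, Inj (f i) (x i))
  (ho : ∀ i T, IsOpenImmersion (mm σ g (f i) (q i) (hq i) T))
  (hd : ∀ i j T, i ≠ j → Disjoint (Set.range (mm σ g (f i) (q i) (hq i) T)) (Set.range (mm σ g (f j) (q j) (hq j) T)))
  (hc : ∀ T (z : PicF.XT g (dn σ T)), ∃ i, z ∈ Set.range (mm σ g (f i) (q i) (hq i) T))

/-- Open subschemes as objects over `S'`. -/
noncomputable abbrev rs (Z : Over S') (U : Z.left.Opens) : Over.mk (U.ι ≫ Z.hom) ⟶ Z := Over.homMk U.ι rfl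

include hP hx hI ho hd hc in
/-- Points of `J` are given by honest classes. -/
theorem exists_class (T : Over S') (b : dn σ T ⟶ J) :
    ∃ c : Pic (PicF.XT g (dn σ T)), PZ g _ c ∧ φ _ (toCl c) = b := by
  have hr := fun i => exists_isPsi (q i) (hq i) (hx i) (hI i) hP T b
  choose r hr using hr
  have := fun i => ho i T
  obtain ⟨c, hcr⟩ := K487.PicHon.exists_glue (fun i => mm σ g (f i) (q i) (hq i) T) (fun i j h => hd i j T h)
    (hc T) r
  obtain ⟨α, V, j, hj, hV⟩ := exists_cover_surj σ hP T b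
  choose cV hcV hφV using hV
  have hjm := (Scheme.ofArrows_mem_precoverage_iff _).1 hj
  have key : ∀ t : T.left, ∃ (Z : Over S') (z : Z ⟶ T), Flat z.left ∧ LocallyOfFinitePresentation z.left ∧
      t ∈ Set.range z.left ∧ PZ g _ (pull (PicF.XTmap g (dnm σ z)) c) ∧
      φ _ (toCl (pull (PicF.XTmap g (dnm σ z)) c)) = dnm σ z ≫ b := by
    intro t
    obtain ⟨l, z₀, hz₀⟩ := hjm.1 t
    have hjl := hjm.2 l
    let a : ∀ i, Pic (V l).left := fun i => pull (PicF.secT (f i) (x i) (hx i) (V l))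
      (pull (mm σ g (f i) (q i) (hq i) (V l)) (cV l))
    obtain ⟨U, hzU, hUa⟩ := exists_open a z₀
    let ρ : Over.mk (U.ι ≫ (V l).hom) ⟶ V l := rs (V l) U
    have hkey : pull (PicF.XTmap g (dnm σ (ρ ≫ j l))) c = pull (PicF.XTmap g (dnm σ ρ)) (cV l) := by
      have := fun i => ho i (Over.mk (U.ι ≫ (V l).hom))
      refine Pic13.H953.PicDisj.eq_of_pull (fun i => mm σ g (f i) (q i) (hq i) (Over.mk (U.ι ≫ (V l).hom)))
        (fun i k h => hd i k _ h) (hc _) fun i => ?_
      rw [← pull_comp, ← XTmap_mm, pull_comp, hcr, ← pull_comp, ← XTmap_mm, pull_comp, XTmap_comp, pull_comp,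
        (hr i).2 (V l) (j l) (cV l) (hcV l) (hφV l), norm_apply, map_div, div_eq_iff_eq_mul]
      have h6 : pull (PicF.XTmap (f i) ρ) (pull (PicF.XTproj (f i) (V l)) (a i)) = 1 := by
        rw [← pull_comp, XTmap_XTproj, pull_comp]
        have : pull ρ.left (a i) = 1 := hUa i
        rw [this, map_one]
      rw [h6, mul_one]
    refine ⟨Over.mk (U.ι ≫ (V l).hom), ρ ≫ j l, ?_, ?_, ?_, ?_, ?_⟩
    · rw [Over.comp_left]
      have h1 : Flat ρ.left := inferInstanceAs (Flat U.ι)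
      have h2 : Flat (j l).left := hjl.1
      infer_instance
    · rw [Over.comp_left]
      have h1 : LocallyOfFinitePresentation ρ.left := inferInstanceAs (LocallyOfFinitePresentation U.ι)
      have h2 : LocallyOfFinitePresentation (j l).left := hjl.2
      infer_instance
    · exact ⟨⟨z₀, hzU⟩, hz₀⟩
    · rw [hkey]; exact (hcV l).pull (dnm σ ρ)
    · rw [hkey, phi_pull hP (dnm σ ρ) (hcV l), hφV, dnm_comp, Category.assoc]
  choose Z z h1 h2 h3 h4 h5 using key
  let 𝒰 : K732.Cov.FCov (dn σ T) :=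
    { ι := T.left
      V := fun t => dn σ (Z t)
      j := fun t => dnm σ (z t)
      flat := h1
      lfp := h2
      covers := fun t => by
        obtain ⟨y, hy⟩ := h3 t
        exact ⟨t, y, hy⟩ }
  have hc0 : PZ g (dn σ T) c := (isPicZeroCl_toCl_iff g _ c).2
    (K247.GrpZero.fibZero_of_cov g 𝒰 c fun t => (isPicZeroCl_toCl_iff g _ _).1 (h4 t))
  refine ⟨c, hc0, 𝒰.hom_ext fun t => ?_⟩
  rw [← phi_pull hP (𝒰.j t) hc0]
  exact h5 t

end gen

section field

variable {K Ω : Type u} [Field K] [Field Ω] [Algebra K Ω] [IsSepClosure K Ω] {C : Scheme.{u}}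
  {g : C ⟶ Spec (CommRingCat.of K)} [IsProper g] [Smooth g] {J : Over (Spec (CommRingCat.of K))}
  {φ : ∀ T : Over (Spec (CommRingCat.of K)), PicF.Cl (PicF.XT g T) → (T ⟶ J)}
  (hP : AbDual.IsRelPicZeroK Scheme.fppfPrecoverage g J φ)

variable (K Ω) in
/-- `Spec Ω ⟶ Spec K`. -/
noncomputable abbrev sp : Spec (CommRingCat.of Ω) ⟶ Spec (CommRingCat.of K) :=
  Spec.map (CommRingCat.ofHom (algebraMap K Ω))

variable (K Ω) in
/-- `Spec Ω` over itself, seen over `Spec K`. -/
noncomputable def ePt : SGA7.pt (K := K) Ω ≅ dn (sp K Ω) (Over.mk (𝟙 (Spec (CommRingCat.of Ω)))) :=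
  Over.isoMk (Iso.refl _) (by simp)

theorem isRegularScheme {K : Type u} [Field K] {C : Scheme.{u}} (g : C ⟶ Spec (CommRingCat.of K)) [Smooth g] :
    Models.IsRegularScheme C := by
  have h1 : IsLocallyNoetherian (Spec (CommRingCat.of K)) := inferInstance
  have : IsRegularRing K := inferInstance
  exact Groth.Agent.Sga7.H732.Reg.isRegularScheme_of_smooth g (K488.RegBC.isRegularScheme_Spec K)

include hP in
theorem main_field :
    (∀ b : SGA7.Pts Ω J, ∃ c : Pic (PicF.XT g (SGA7.pt Ω)), PZ g _ c ∧ φ _ (toCl c) = b) ∧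
    ∀ c c' : Pic (PicF.XT g (SGA7.pt Ω)), PZ g _ c → PZ g _ c' → φ _ (toCl c) = φ _ (toCl c') → c = c' := by
  have h1 : Algebra.IsSeparable K Ω := IsSepClosure.separable
  have h2 : IsSepClosed Ω := IsSepClosure.sep_closed K
  have h3 : GeometricallyReduced g := Groth.Agent.Sga4B.GoodNbhd.geometricallyReduced_of_smooth g
  obtain ⟨ι, _, D, f, q, hq, x, hx, -, -, -, hI, ho, hd, hc⟩ := K488.Comp.exists_components (k := Ω) g
    (isRegularScheme g)
  let e := ePt K Ω
  refine ⟨fun b => ?_, fun c c' hc0 hc0' h => ?_⟩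
  · obtain ⟨c, h3, h4⟩ := exists_class hP hq hx hI ho hd hc _ (e.inv ≫ b)
    refine ⟨pull (PicF.XTmap g e.hom) c, h3.pull e.hom, ?_⟩
    rw [phi_pull hP e.hom h3, h4, Iso.hom_inv_id_assoc]
  · have hinj : pull (PicF.XTmap g e.inv) c = pull (PicF.XTmap g e.inv) c' := by
      have := fun i => ho i (Over.mk (𝟙 (Spec (CommRingCat.of Ω))))
      refine Pic13.H953.PicDisj.eq_of_pull (fun i => mm (sp K Ω) g (f i) (q i) (hq i)
        (Over.mk (𝟙 (Spec (CommRingCat.of Ω))))) (fun i k h => hd i k _ h) (hc _) fun i => ?_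
      have h5 := norm_eq (q := q i) (hq := hq i) (hx := hx i) (hI i) hP (hc0.pull e.inv) (hc0'.pull e.inv) (by
        rw [phi_pull hP _ hc0, phi_pull hP _ hc0', h])
      have h6 : ∀ a : Pic (PicF.XT (f i) (Over.mk (𝟙 (Spec (CommRingCat.of Ω))))),
          norm (f i) (x i) (hx i) _ a = a := fun a => by
        rw [norm_apply, pic_spec_local Ω (pull (PicF.secT (f i) (x i) (hx i) _) a), map_one, div_one]
      rw [h6, h6] at h5
      exact h5
    have h7 := congrArg (pull (PicF.XTmap g e.hom)) hinj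
    rw [← pull_comp, ← pull_comp, ← XTmap_comp, Iso.hom_inv_id, XTmap_id, pull_id, pull_id] at h7
    exact h7

open MonoidalCategory CartesianMonoidalCategory MonObj

variable [GrpObj J]
  (hmul : ∀ (T : Over (Spec (CommRingCat.of K))) (L M : (PicF.XT g T).Modules), AbDual.IsPicZeroCl g T (PicF.cl L) →
    AbDual.IsPicZeroCl g T (PicF.cl M) → φ T (PicF.cl (CohB1.tensorMod L M)) = φ T (PicF.cl L) * φ T (PicF.cl M))

omit [IsProper g] [Smooth g] in
include hmul in
theorem phi_mul {T : Over (Spec (CommRingCat.of K))} {a b : Pic (PicF.XT g T)} (ha : PZ g T a) (hb : PZ g T b) :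
    φ T (toCl (a * b)) = φ T (toCl a) * φ T (toCl b) := by
  obtain ⟨L, hL, rfl⟩ := exists_mk a
  obtain ⟨M, hM, rfl⟩ := exists_mk b
  exact hmul T L M ha hb

omit [IsProper g] [Smooth g] in
include hmul in
theorem phi_one (T : Over (Spec (CommRingCat.of K))) : φ T (toCl (1 : Pic (PicF.XT g T))) = 1 := by
  have h := phi_mul hmul (K488.NormKer.PZ.one g T) (K488.NormKer.PZ.one g T)
  rw [_root_.mul_one] at h
  exact mul_eq_left.1 h.symm

omit [IsProper g] [Smooth g] in
theorem pz_div {T : Over (Spec (CommRingCat.of K))} {a b : Pic (PicF.XT g T)} (ha : PZ g T a) (hb : PZ g T b) :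
    PZ g T (a / b) := by
  rw [div_eq_mul_inv]
  exact (isPicZeroCl_toCl_iff g T _).2
    (((isPicZeroCl_toCl_iff g T _).1 ha).mul ((isPicZeroCl_toCl_iff g T _).1 hb).inv)

omit [IsProper g] [Smooth g] in
include hmul in
theorem phi_div {T : Over (Spec (CommRingCat.of K))} {a b : Pic (PicF.XT g T)} (ha : PZ g T a) (hb : PZ g T b) :
    φ T (toCl (a / b)) = φ T (toCl a) * (φ T (toCl b))⁻¹ := by
  rw [eq_mul_inv_iff_mul_eq, ← phi_mul hmul (pz_div ha hb) hb, div_mul_cancel]

omit [IsProper g] [Smooth g] in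
include hmul in
theorem phi_pow {T : Over (Spec (CommRingCat.of K))} {a : Pic (PicF.XT g T)} (ha : PZ g T a) (n : ℕ) :
    PZ g T (a ^ n) ∧ φ T (toCl (a ^ n)) = φ T (toCl a) ^ n := by
  induction n with
  | zero => rw [pow_zero, pow_zero]; exact ⟨K488.NormKer.PZ.one g T, phi_one hmul T⟩
  | succ n ih =>
    rw [pow_succ, pow_succ, phi_mul hmul ih.1 ha, ih.2]
    exact ⟨(isPicZeroCl_toCl_iff g T _).2
      (((isPicZeroCl_toCl_iff g T _).1 ih.1).mul ((isPicZeroCl_toCl_iff g T _).1 ha)), rfl⟩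

include hP hmul in
/-- **Level two for the torsion of the Jacobian from level two of the torsion of `Pic(C_Ω)`.** -/
theorem levelTwo (n : ℕ) (σ τ : Ω ≃ₐ[K] Ω)
    (h : ∀ c : Pic (PicF.XT g (SGA7.pt Ω)), c ^ n = 1 →
      pull (PicF.XTmap g (SGA7.specAut σ)) (pull (PicF.XTmap g (SGA7.specAut τ)) c / c) =
        pull (PicF.XTmap g (SGA7.specAut τ)) c / c)
    (x : SGA7.Pts Ω J) (hx : x ^ n = 1) : SGA7.dev σ (SGA7.dev τ x) = 1 := by
  obtain ⟨hsurj, hinj⟩ := main_field (Ω := Ω) hP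
  obtain ⟨c, hc, rfl⟩ := hsurj x
  have h1 := phi_pow hmul hc n
  have hcn : c ^ n = 1 := hinj _ _ h1.1 (K488.NormKer.PZ.one g _) (by
    rw [h1.2, phi_one hmul]; exact hx)
  have h2 := h c hcn
  have hdev : ∀ (ρ : Ω ≃ₐ[K] Ω) (d : Pic (PicF.XT g (SGA7.pt Ω))), PZ g _ d →
      SGA7.dev ρ (φ _ (toCl d) : SGA7.Pts Ω J) = φ _ (toCl (pull (PicF.XTmap g (SGA7.specAut ρ)) d / d)) := by
    intro ρ d hd
    rw [phi_div hmul (hd.pull _) hd, phi_pull hP _ hd]
    rfl
  rw [hdev τ c hc, hdev σ _ (pz_div (hc.pull _) hc), h2, div_self', phi_one hmul]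

end field

end K487.JacPts
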