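import Groth.Agent.Models.K487.PicPL
import Groth.Agent.Models.K487.JacPts
import Groth.Agent.Sga7.H729.Main
import Groth.Agent.Sga7.H274.ValExt
import Groth.Agent.Sga7.H481.InertiaField
import Groth.Agent.Neron.K488.JS
import Groth.Agent.Flat2B.SmoothGeom
import Groth.Agent.S0537
import Groth.Prelude.Def_ModelsSS

/-!
# Semistable curves have semistable Jacobians

`main`: `R` a discrete valuation ring with algebraically closed residue field, `C` a smooth proper scheme over
`Frac R` with semistable reduction (a proper nodal model), `(J, φ)` its Jacobian. Then `J` has semistable reduction.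
The proof: the Picard-Lefschetz formula (`S3999`) for the model over the strict henselization, Kummer theory on the
geometric generic fibre, and the Galois criterion (`S4048`).
-/

set_option autoImplicit false
universe u

open CategoryTheory CategoryTheory.Limits AlgebraicGeometry
open Groth.Agent Groth.Agent.Grpsch Groth.Agent.Grpsch.PicGrp

namespace K487.Forward

section geo

variable {R K R' K' Ω : Type u} [CommRing R] [Field K] [Algebra R K]
  [CommRing R'] [Field K'] [Algebra R' K'] [Field Ω]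
  [Algebra K Ω] [Algebra K' Ω] [Algebra R R'] [Algebra K K'] [Algebra R K'] [IsScalarTower R R' K']
  [IsScalarTower R K K'] [IsScalarTower K K' Ω] [Algebra R' Ω] [IsScalarTower R' K' Ω]
  {C X : Scheme.{u}} {fC : C ⟶ Spec (CommRingCat.of K)} {p : X ⟶ Spec (CommRingCat.of R)} {c : C ⟶ X}
  (hc : IsPullback c fC p (Spec.map (CommRingCat.ofHom (algebraMap R K))))

variable (R R') in
/-- The model over `R'`. -/
noncomputable abbrev pp (p : X ⟶ Spec (CommRingCat.of R)) : pullback p (VanCyc.toS R R') ⟶ Spec (CommRingCat.of R') :=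
  pullback.snd p (VanCyc.toS R R')

include hc in
/-- The generic fibre of the model over `R'`. -/
theorem smooth_gen [Smooth fC] : Smooth (VanCyc.fibStr R' (pp R R' p) K') := by
  have h1 : IsPullback (VanCyc.jA R' (pp R R' p) K' ≫ pullback.fst p (VanCyc.toS R R'))
      (VanCyc.fibStr R' (pp R R' p) K') p (VanCyc.toS R' K' ≫ VanCyc.toS R R') :=
    ((IsPullback.of_hasPullback (pp R R' p) (VanCyc.toS R' K')).flip.paste_vert
      (IsPullback.of_hasPullback p (VanCyc.toS R R')).flip).flip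
  have h2 : IsPullback (pullback.fst fC (JacPts.sp K K') ≫ c) (pullback.snd fC (JacPts.sp K K')) p
      (JacPts.sp K K' ≫ Spec.map (CommRingCat.ofHom (algebraMap R K))) :=
    ((IsPullback.of_hasPullback fC (JacPts.sp K K')).flip.paste_vert hc.flip).flip
  have h3 : JacPts.sp K K' ≫ Spec.map (CommRingCat.ofHom (algebraMap R K)) = VanCyc.toS R' K' ≫ VanCyc.toS R R' := by
    rw [← Spec.map_comp, ← Spec.map_comp, ← CommRingCat.ofHom_comp, ← CommRingCat.ofHom_comp,
      ← IsScalarTower.algebraMap_eq R K K', ← IsScalarTower.algebraMap_eq R R' K']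
  rw [h3] at h2
  rw [← h1.isoIsPullback_hom_snd _ _ h2]
  infer_instance

/-- A `K`-automorphism fixing `K'` as a `K'`-automorphism. -/
def up (σ : Ω ≃ₐ[K] Ω) (hσ : ∀ x : K', σ (algebraMap K' Ω x) = algebraMap K' Ω x) : Ω ≃ₐ[K'] Ω :=
  AlgEquiv.ofRingEquiv (f := σ.toRingEquiv) hσ

include hc in
/-- The geometric generic fibre with its Galois action. -/
theorem exists_iso : ∃ κ : PicF.XT fC (SGA7.pt Ω) ≅ VanCyc.fib R' (pp R R' p) Ω,
    ∀ (σ : Ω ≃ₐ[K] Ω) (hσ : ∀ x : K', σ (algebraMap K' Ω x) = algebraMap K' Ω x),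
      PicF.XTmap fC (SGA7.specAut σ) ≫ κ.hom = κ.hom ≫ VanCyc.galGeom (pp R R' p) (up σ hσ) := by
  have h1 : IsPullback (VanCyc.jA R' (pp R R' p) Ω ≫ pullback.fst p (VanCyc.toS R R'))
      (VanCyc.fibStr R' (pp R R' p) Ω) p (VanCyc.toS R' Ω ≫ VanCyc.toS R R') :=
    ((IsPullback.of_hasPullback (pp R R' p) (VanCyc.toS R' Ω)).flip.paste_vert
      (IsPullback.of_hasPullback p (VanCyc.toS R R')).flip).flip
  have h2 : IsPullback (pullback.fst fC (JacPts.sp K Ω) ≫ c) (pullback.snd fC (JacPts.sp K Ω)) p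
      (JacPts.sp K Ω ≫ Spec.map (CommRingCat.ofHom (algebraMap R K))) :=
    ((IsPullback.of_hasPullback fC (JacPts.sp K Ω)).flip.paste_vert hc.flip).flip
  have h3 : JacPts.sp K Ω ≫ Spec.map (CommRingCat.ofHom (algebraMap R K)) = VanCyc.toS R' Ω ≫ VanCyc.toS R R' := by
    rw [← Spec.map_comp, ← Spec.map_comp, ← CommRingCat.ofHom_comp, ← CommRingCat.ofHom_comp]
    congr 2
    rw [IsScalarTower.algebraMap_eq K K' Ω, IsScalarTower.algebraMap_eq R' K' Ω, RingHom.comp_assoc, RingHom.comp_assoc,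
      ← IsScalarTower.algebraMap_eq R K K', ← IsScalarTower.algebraMap_eq R R' K']
  rw [h3] at h2
  let κ : PicF.XT fC (SGA7.pt Ω) ≅ VanCyc.fib R' (pp R R' p) Ω := h2.isoIsPullback _ _ h1
  have hk1 : κ.hom ≫ VanCyc.jA R' (pp R R' p) Ω ≫ pullback.fst p (VanCyc.toS R R') =
      pullback.fst fC (JacPts.sp K Ω) ≫ c := h2.isoIsPullback_hom_fst _ _ h1
  have hk2 : κ.hom ≫ VanCyc.fibStr R' (pp R R' p) Ω = pullback.snd fC (JacPts.sp K Ω) :=
    h2.isoIsPullback_hom_snd _ _ h1
  refine ⟨κ, fun σ hσ => h1.hom_ext ?_ ?_⟩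
  · have e1 : VanCyc.galGeom (pp R R' p) (up σ hσ) ≫ VanCyc.jA R' (pp R R' p) Ω ≫
        pullback.fst p (VanCyc.toS R R') = VanCyc.jA R' (pp R R' p) Ω ≫ pullback.fst p (VanCyc.toS R R') := by
      rw [← Category.assoc, VanCyc.galGeom_jA]
    have e2 : PicF.XTmap fC (SGA7.specAut σ) ≫ pullback.fst fC (JacPts.sp K Ω) = pullback.fst fC (JacPts.sp K Ω) :=
      Groth.Agent.Fga.RigGrp.XTmap_fst fC (SGA7.specAut σ)
    rw [Category.assoc, Category.assoc, hk1, e1, hk1, reassoc_of% e2]
  · have e1 : VanCyc.galGeom (pp R R' p) (up σ hσ) ≫ VanCyc.fibStr R' (pp R R' p) Ω =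
        VanCyc.fibStr R' (pp R R' p) Ω ≫ Spec.map (CommRingCat.ofHom (σ : Ω →+* Ω)) := pullback.lift_snd _ _ _
    have e2 : PicF.XTmap fC (SGA7.specAut σ) ≫ pullback.snd fC (JacPts.sp K Ω) =
        pullback.snd fC (JacPts.sp K Ω) ≫ Spec.map (CommRingCat.ofHom (σ : Ω →+* Ω)) :=
      Groth.Agent.Fga.RigGrp.XTmap_XTproj fC (SGA7.specAut σ)
    rw [Category.assoc, Category.assoc, hk2, e1, e2, reassoc_of% hk2]

end geo

section main

open MonoidalCategory CartesianMonoidalCategory MonObj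

/-- The dimension of the generic fibre of a nodal family. -/
theorem dim_le {K : Type u} [Field K] {C : Scheme.{u}} (fC : C ⟶ Spec (CommRingCat.of K)) (h : Curv2.IsNodalFamily fC) :
    topologicalKrullDim C ≤ 1 := by
  rw [Groth.Agent.VarietyB.DimTop.topologicalKrullDim_eq_iSup_irreducibleComponents]
  exact iSup_le fun Z => (Groth.Agent.Sga7.H591.GeoFib.pure fC h Z.1 Z.2).le

/-- A prime number invertible in a field. -/
theorem exists_prime (k : Type u) [Field k] : ∃ ℓ : ℕ, ℓ.Prime ∧ (ℓ : k) ≠ 0 := by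
  obtain ⟨ℓ, h1, h2⟩ := Nat.exists_infinite_primes (ringChar k + 1)
  refine ⟨ℓ, h2, fun h => ?_⟩
  have h3 : ringChar k ∣ ℓ := (ringChar.spec k ℓ).1 h
  rcases (Nat.dvd_prime h2).1 h3 with h4 | h4
  · exact CharP.ringChar_ne_one h4
  · omega

/-- **Level two of the inertia action on the Jacobian of a semistable curve.** -/
theorem levelTwo (R K Ω : Type u) [CommRing R] [IsDomain R] [IsDiscreteValuationRing R]
    [IsAlgClosed (IsLocalRing.ResidueField R)] [Field K] [Algebra R K] [IsFractionRing R K] [Field Ω] [Algebra K Ω]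
    [IsSepClosure K Ω] (W : ValuationSubring Ω) (hW : SGA7.LiesOver K R W)
    (ℓ : ℕ) (hℓp : (ℓ : IsLocalRing.ResidueField R) ≠ 0)
    {C X : Scheme.{u}} {fC : C ⟶ Spec (CommRingCat.of K)} [IsProper fC] [Smooth fC] {p : X ⟶ Spec (CommRingCat.of R)}
    [IsProper p] (hp : Curv2.IsNodalFamily p) {c : C ⟶ X}
    (hc : IsPullback c fC p (Spec.map (CommRingCat.ofHom (algebraMap R K))))
    {J : Over (Spec (CommRingCat.of K))} [GrpObj J]
    {φ : ∀ T : Over (Spec (CommRingCat.of K)), PicF.Cl (PicF.XT fC T) → (T ⟶ J)}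
    (hJ : AbDual.IsRelPicZeroK Scheme.fppfPrecoverage fC J φ)
    (hmul : ∀ (T : Over (Spec (CommRingCat.of K))) (L M : (PicF.XT fC T).Modules), AbDual.IsPicZeroCl fC T (PicF.cl L) →
      AbDual.IsPicZeroCl fC T (PicF.cl M) → φ T (PicF.cl (CohB1.tensorMod L M)) = φ T (PicF.cl L) * φ T (PicF.cl M)) :
    SGA7.InertiaLevelTwoOn W J ℓ := by
  obtain ⟨R', _, _, _, _, _⟩ := Groth.Agent.S0537.result R
  have : IsDomain R' := Sga4h.ChartDVR.isDomain_of_isStrictHenselization R R'
  have : IsDiscreteValuationRing R' :=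
    Sga4h.ChartDVR.isDiscreteValuationRing_of_isStrictHenselization R R'
  have hR' := Sga4h.ChartDVR.isStrictlyHenselianLocalRing_of_isStrictHenselization R R'
  let K' := FractionRing R'
  have hinj : Function.Injective (algebraMap R K') := by
    rw [IsScalarTower.algebraMap_eq R R' K']
    exact (IsFractionRing.injective R' K').comp (Sga4h.ChartDVR.injective_algebraMap R R')
  let _ : Algebra K K' := (IsFractionRing.lift (K := K) hinj).toAlgebra
  have : IsScalarTower R K K' := by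
    refine IsScalarTower.of_algebraMap_eq fun r => ?_
    exact (IsFractionRing.lift_algebraMap hinj r).symm
  obtain ⟨_, _, hW', hsep', hin⟩ := Sga7.H481.InertiaField.exists_algebra R K Ω hW R' K'
  let _ : Algebra R' Ω := ((algebraMap K' Ω).comp (algebraMap R' K')).toAlgebra
  have : IsScalarTower R' K' Ω := IsScalarTower.of_algebraMap_eq fun _ => rfl
  -- the residue field
  have hl' : (ℓ : IsLocalRing.ResidueField R') ≠ 0 := by
    have h1 := (IsLocalRing.ResidueField.map (algebraMap R R')).injective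
    intro h0
    apply hℓp
    apply h1
    rw [map_natCast, map_zero]
    exact h0
  have hsc : IsSepClosure (IsLocalRing.ResidueField R) (IsLocalRing.ResidueField R') :=
    Hensel.IsStrictHenselization.isSepClosure
  have hac : IsAlgClosed (IsLocalRing.ResidueField R') := by
    have h1 : Algebra.IsSeparable (IsLocalRing.ResidueField R) (IsLocalRing.ResidueField R') := hsc.separable
    have h2 : Function.Bijective (algebraMap (IsLocalRing.ResidueField R) (IsLocalRing.ResidueField R')) :=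
      IsAlgClosed.algebraMap_bijective_of_isIntegral
    exact IsAlgClosed.of_ringEquiv _ _ (RingEquiv.ofBijective _ h2)
  have hunit : ∀ ν : ℕ, IsUnit ((ℓ ^ ν : ℕ) : R') := fun ν => by
    rw [Nat.cast_pow]
    refine IsUnit.pow ν ?_
    rw [← IsLocalRing.residue_ne_zero_iff_isUnit, map_natCast]
    exact hl'
  -- the model over `R'`
  have hp' : Curv2.IsNodalFamily (pp R R' p) := Sga7.H591.GeoFib.isNodalFamily_of_isPullback p hp _ _ _
    (IsPullback.of_hasPullback p (VanCyc.toS R R'))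
  have hsm := smooth_gen (R' := R') (K' := K') hc
  obtain ⟨κ, hκ⟩ := exists_iso (R' := R') (K' := K') (Ω := Ω) hc
  intro ν σ τ hσ hτ x hx
  refine JacPts.levelTwo hJ hmul (ℓ ^ ν) σ τ (fun d hd => ?_) x hx
  let σ' := up (K' := K') σ ((hin σ).1 hσ)
  let τ' := up (K' := K') τ ((hin τ).1 hτ)
  have e1 : ∀ (ρ : Ω ≃ₐ[K] Ω) (hρ : ∀ x : K', ρ (algebraMap K' Ω x) = algebraMap K' Ω x)
      (a : Pic (PicF.XT fC (SGA7.pt Ω))),
      pull (VanCyc.galGeom (pp R R' p) (up ρ hρ)) (pull κ.inv a) = pull κ.inv (pull (PicF.XTmap fC (SGA7.specAut ρ)) a) := by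
    intro ρ hρ a
    rw [← pull_comp, ← pull_comp]
    congr 2
    rw [← cancel_epi κ.hom, ← Category.assoc, ← hκ ρ hρ, Category.assoc, Iso.hom_inv_id, Category.comp_id,
      Iso.hom_inv_id_assoc]
  have key := PicPL.main (pp R R' p) hR' hp' (ℓ ^ ν) (hunit ν) σ' τ' (pull κ.inv d) (by
    rw [← map_pow, hd, map_one])
  rw [e1, ← map_div, e1] at key
  have hback : ∀ a : Pic (PicF.XT fC (SGA7.pt Ω)), pull κ.hom (pull κ.inv a) = a := fun a => by
    rw [← pull_comp, Iso.hom_inv_id, pull_id]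
  have h7 := congrArg (pull κ.hom) key
  rw [hback, hback] at h7
  exact h7

/-- **Semistable curves have semistable Jacobians.** -/
theorem main (R : Type u) [CommRing R] [IsDomain R] [IsDiscreteValuationRing R]
    (hk : IsAlgClosed (IsLocalRing.ResidueField R))
    (C : Scheme.{u}) (fC : C ⟶ (Spec (CommRingCat.of (FractionRing R)))) [IsProper fC] [Smooth fC]
    (J : Over (Spec (CommRingCat.of (FractionRing R)))) [GrpObj J] [IsProper J.hom]
    (φ : ∀ T : Over (Spec (CommRingCat.of (FractionRing R))), PicF.Cl (PicF.XT fC T) → (T ⟶ J))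
    (hJ : AbDual.IsRelPicZeroK Scheme.fppfPrecoverage fC J φ)
    (hmul : ∀ (T : Over (Spec (CommRingCat.of (FractionRing R)))) (L M : (PicF.XT fC T).Modules), AbDual.IsPicZeroCl fC T (PicF.cl L) →
      AbDual.IsPicZeroCl fC T (PicF.cl M) → φ T (PicF.cl (CohB1.tensorMod L M)) = φ T (PicF.cl L) * φ T (PicF.cl M))
    (h : Models.HasSemistableReduction R C fC) : SGA7.HasSemistableReduction R (FractionRing R) J := by
  obtain ⟨X, p, ⟨-, -, -, c, hc⟩, hpr, hnod⟩ := h
  have hfC : Curv2.IsNodalFamily fC := Sga7.H591.GeoFib.isNodalFamily_of_isPullback p hnod _ _ _ hc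
  obtain ⟨hsm, -, -, hirr⟩ := K488.JS.picZero_props fC (dim_le fC hfC) J φ hJ
  have hGI : GeometricallyIntegral J.hom := Flat2B.SmoothGeom.geometricallyIntegral_of_smooth J.hom
  obtain ⟨ℓ, hℓ, hℓp⟩ := exists_prime (IsLocalRing.ResidueField R)
  let Ω := SeparableClosure (FractionRing R)
  obtain ⟨W, hW⟩ := Sga7.H274.ValExt.exists_liesOver (FractionRing R) R Ω
  exact Sga7.H729.Main.semistable_of_levelTwo R (FractionRing R) Ω W hW ℓ hℓ hℓp J
    (levelTwo R (FractionRing R) Ω W hW ℓ hℓp hnod hc hJ hmul)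

end main

end K487.Forward
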