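import Groth.Agent.Dix.K733.PicNat
import Groth.Agent.Etcore.KummerCls
import Groth.Agent.Etcore.HpullViaEq
import Groth.Agent.Dix.KummerLES

/-!
# From `H¹(X, ℤ/N)` to torsion in `Pic X`

`j : X ⟶ Y`, endomorphisms `s`, `t` of `X` over `Y` and over a field containing a primitive `N`-th root of unity. If
`(s^* - 1)(t^* - 1)` vanishes on `H¹(X, j^* ℤ/N)` then it vanishes on `Pic(X)[N]`.
-/

set_option autoImplicit false
universe u

open CategoryTheory CategoryTheory.Limits AlgebraicGeometry Opposite Abelian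
open Groth.Agent Groth.Agent.Grpsch Groth.Agent.Grpsch.PicGrp
open scoped Groth.Agent.Etcore.EtInst Groth.Agent.Etcore.HC
open Groth.Agent.Etcore.EtInst Groth.Agent.Etcore.PullCoh Groth.Agent.Etcore.HpullCalc
open Groth.Agent.Etcore.HC Groth.Agent.Etcore.GmFun Groth.Agent.Etcore.ZetaMap Groth.Agent.Etcore.KummerCls
open Groth.Agent.CurvesA.H1GmPic

namespace K487.KumPL

variable {X Y : Scheme.{u}}

/-- The class of a pullback. -/
theorem clsHom_pull (f : X ⟶ Y) (c : Pic Y) :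
    @Eq (HH X (EtCoh.Gm X) 1) (clsHom X (Additive.ofMul (pull f c))) (HG f 1 (clsHom Y (Additive.ofMul c))) := by
  induction c using PicGrp.ind with | _ L hL => ?_
  rw [pull_mk, clsHom_mk, clsHom_mk]
  exact (K733.PicNat.HG_clsL f L hL).symm

/-- The relative pullback with constant coefficients. -/
theorem HC_galH (M : Type) [AddCommGroup M] (s : X ⟶ X) (j : X ⟶ Y) (hs : s ≫ j = j) (q : ℕ)
    (z : HH X ((EtCoh.pull j).obj (EtCoh.const Y M)) q) :
    HHmap (EtCore.pullConst j M).hom q (hpVia s j j hs (EtCoh.const Y M) q z) =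
      HC M s q (HHmap (EtCore.pullConst j M).hom q z) := by
  rw [hpVia_apply_th, HC, hpl_map, hpl_apply, ← HHmap_comp, pullConst_comp s j j hs M]

section field

variable {K : Type u} [Field K] {N : ℕ} [NeZero N] {ζ : K} (hζ : IsPrimitiveRoot ζ N)
  (σ : K →+* Γ(X, ⊤)) (hN : (N : K) ≠ 0)

include hN in
/-- `N`-torsion in `H¹(X, G_m)` comes from `H¹(X, ℤ/N)`. -/
theorem exists_zm (c : HH X (EtCoh.Gm X) 1) (hc : N • c = 0) :
    ∃ y : HH X (EtCoh.const X (ZMod N)) 1, HHmap (zm N hζ σ) 1 y = c :=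
  Dix.KummerLES.g_exists_of_nsmul_eq_zero rfl (shortExact_zeta N hζ σ hN) 1 c hc

include hζ hN in
/-- **Level two on `H¹(X, G_m)[N]` from level two on `H¹(X, ℤ/N)`**. -/
theorem HG_main (j : X ⟶ Y) (s t : X ⟶ X) (hs : s ≫ j = j) (ht : t ≫ j = j)
    (hsσ : σ = s.appTop.hom.comp σ) (htσ : σ = t.appTop.hom.comp σ)
    (h : ∀ z : HH X ((EtCoh.pull j).obj (EtCoh.const Y (ZMod N))) 1,
      hpVia s j j hs (EtCoh.const Y (ZMod N)) 1 (hpVia t j j ht (EtCoh.const Y (ZMod N)) 1 z - z) =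
        hpVia t j j ht (EtCoh.const Y (ZMod N)) 1 z - z)
    (x : HH X (EtCoh.Gm X) 1) (hx : N • x = 0) : HG s 1 (HG t 1 x - x) = HG t 1 x - x := by
  obtain ⟨y, hy⟩ := exists_zm hζ σ hN x hx
  obtain ⟨z, hz⟩ := (HHmap_bijective (EtCore.pullConst j (ZMod N)).hom 1).2 y
  have key : HC (ZMod N) s 1 (HC (ZMod N) t 1 y - y) = HC (ZMod N) t 1 y - y := by
    have h1 := congrArg (HHmap (EtCore.pullConst j (ZMod N)).hom 1) (h z)
    rw [HC_galH, map_sub, HC_galH, hz] at h1
    exact h1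
  have h2 := congrArg (HHmap (zm N hζ σ) 1) key
  rw [← HG_map_zm hζ σ s σ hsσ, map_sub, ← HG_map_zm hζ σ t σ htσ, hy] at h2
  exact h2

include hζ σ hN in
/-- **Level two on `Pic(X)[N]` from level two on `H¹(X, ℤ/N)`**. -/
theorem main (j : X ⟶ Y) (s t : X ⟶ X) (hs : s ≫ j = j) (ht : t ≫ j = j)
    (hsσ : σ = s.appTop.hom.comp σ) (htσ : σ = t.appTop.hom.comp σ)
    (h : ∀ z : HH X ((EtCoh.pull j).obj (EtCoh.const Y (ZMod N))) 1,
      hpVia s j j hs (EtCoh.const Y (ZMod N)) 1 (hpVia t j j ht (EtCoh.const Y (ZMod N)) 1 z - z) =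
        hpVia t j j ht (EtCoh.const Y (ZMod N)) 1 z - z)
    (c : Pic X) (hc : c ^ N = 1) : pull s (pull t c / c) = pull t c / c := by
  -- the class
  let x : HH X (EtCoh.Gm X) 1 := clsHom X (Additive.ofMul c)
  have hx : N • x = 0 := by
    have h1 : clsHom X (Additive.ofMul (c ^ N)) = N • clsHom X (Additive.ofMul c) := by
      rw [ofMul_pow, map_nsmul]
    rw [hc, ofMul_one, map_zero] at h1
    exact h1.symm
  have h2 := HG_main hζ σ hN j s t hs ht hsσ htσ h x hx
  have h3 : ∀ d : Pic X, @Eq (HH X (EtCoh.Gm X) 1) (clsHom X (Additive.ofMul (d / c))) 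
    ((clsHom X (Additive.ofMul d) : HH X (EtCoh.Gm X) 1) - x) := fun d => by
    rw [ofMul_div, map_sub]
  have h4 : @Eq (HH X (EtCoh.Gm X) 1) (clsHom X (Additive.ofMul (pull t c / c))) (HG t 1 x - x) :=
    (h3 _).trans (congrArg (fun w => w - x) (clsHom_pull t c))
  have h5 : @Eq (HH X (EtCoh.Gm X) 1) (clsHom X (Additive.ofMul (pull s (pull t c / c))))
      (clsHom X (Additive.ofMul (pull t c / c))) :=
    (clsHom_pull s _).trans ((congrArg (HG s 1) h4).trans (h2.trans h4.symm))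
  exact Additive.ofMul.injective (clsHom_injective X h5)

end field

theorem conv_aux {A : Type*} [AddCommGroup A] (p q : A →+ A)
    (h : (p - AddMonoidHom.id A).comp (q - AddMonoidHom.id A) = 0) (z : A) : p (q z - z) = q z - z := by
  have h1 := DFunLike.congr_fun h z
  simp only [AddMonoidHom.comp_apply, AddMonoidHom.sub_apply, AddMonoidHom.id_apply, AddMonoidHom.zero_apply] at h1
  exact sub_eq_zero.mp h1

/-- Conversion of the relative pullback. -/
theorem conv (j : X ⟶ Y) (s t : X ⟶ X) (hs : s ≫ j = j) (ht : t ≫ j = j) (F : EtCoh.Ab Y)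
    [PreservesFiniteLimits (EtCoh.pull s)] [PreservesFiniteLimits (EtCoh.pull t)]
    (h : (EtCore.HpullVia s j j hs F 1 - AddMonoidHom.id _).comp
      (EtCore.HpullVia t j j ht F 1 - AddMonoidHom.id _) = 0)
    (z : HH X ((EtCoh.pull j).obj F) 1) :
    hpVia s j j hs F 1 (hpVia t j j ht F 1 z - z) = hpVia t j j ht F 1 z - z := by
  have h1 := conv_aux _ _ h z
  have e1 : ∀ w : HH X ((EtCoh.pull j).obj F) 1,
      @Eq (HH X ((EtCoh.pull j).obj F) 1) (EtCore.HpullVia s j j hs F 1 w) (hpVia s j j hs F 1 w) :=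
    fun w => HpullVia_apply_eq_hpVia s j j hs F 1 w
  have e2 : @Eq (HH X ((EtCoh.pull j).obj F) 1) (EtCore.HpullVia t j j ht F 1 z) (hpVia t j j ht F 1 z) :=
    HpullVia_apply_eq_hpVia t j j ht F 1 z
  rw [← e2, ← e1]
  exact h1

end K487.KumPL
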