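import Groth.Agent.Sga7.H591.GeoFib
import Groth.Agent.Etcore.CurveTop
import Groth.Agent.CurvesB.NodalDescent
import Groth.Agent.CurvesB.NodeCriterion
import Groth.Agent.Lefpen.H370.OrdQuadConv
import Groth.Prelude.Def_VanCyc

/-!
# The special fibre of a nodal family over a local ring with algebraically closed residue field

Nodes are ordinary quadratic points of dimension one, and the family satisfies the hypotheses of the Picard-Lefschetz
formula.
-/

set_option autoImplicit false
universe u

open CategoryTheory CategoryTheory.Limits AlgebraicGeometry TopologicalSpace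

namespace K487.NodGeo

/-! ### The series `xy` -/

section series

variable (k : Type u) [Field k]

theorem XY_eq : (MvPowerSeries.X 0 * MvPowerSeries.X 1 : MvPowerSeries (Fin 2) k) =
    MvPowerSeries.monomial (Finsupp.single 0 1 + Finsupp.single 1 1) 1 := by
  rw [MvPowerSeries.X_def, MvPowerSeries.X_def, MvPowerSeries.monomial_mul_monomial, one_mul]

theorem ordQuadSeries_XY : VanCyc.OrdQuadSeries (MvPowerSeries.X 0 * MvPowerSeries.X 1 : MvPowerSeries (Fin 2) k) := by
  classical
  have hne : ∀ (i : Fin 2) (n : ℕ), (Finsupp.single i n : Fin 2 →₀ ℕ) ≠ Finsupp.single 0 1 + Finsupp.single 1 1 := by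
    intro i n h
    have h0 := DFunLike.congr_fun h 0
    have h1 := DFunLike.congr_fun h 1
    fin_cases i
    · simp at h1
    · simp at h0
  refine ⟨⟨?_, fun i => ?_⟩, fun v _ hv => ?_⟩
  · rw [map_mul, MvPowerSeries.constantCoeff_X, zero_mul]
  · rw [XY_eq, MvPowerSeries.coeff_monomial, if_neg (hne i 1)]
  · have h01 : VanCyc.quadPart (MvPowerSeries.X 0 * MvPowerSeries.X 1 : MvPowerSeries (Fin 2) k) 0 1 = 1 := by
      rw [VanCyc.quadPart, if_neg (by decide), if_pos (by decide), XY_eq, MvPowerSeries.coeff_monomial, if_pos rfl]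
    have hii : ∀ i, VanCyc.quadPart (MvPowerSeries.X 0 * MvPowerSeries.X 1 : MvPowerSeries (Fin 2) k) i i = 0 := by
      intro i
      rw [VanCyc.quadPart, if_pos rfl, XY_eq, MvPowerSeries.coeff_monomial, if_neg (hne i 2)]
    have e0 := congrFun hv 0
    have e1 := congrFun hv 1
    rw [Matrix.mulVec, dotProduct, Fin.sum_univ_two] at e0 e1
    simp only [VanCyc.polarMatrix, hii, Pi.zero_apply, mul_zero, zero_mul, if_true, zero_add, add_zero] at e0 e1
    rw [if_neg (by decide), if_pos (by decide), h01, one_mul] at e0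
    rw [if_neg (by decide), if_neg (by decide), h01, one_mul] at e1
    ext i
    fin_cases i
    · exact e1
    · exact e0

end series

/-! ### Nodes are ordinary quadratic points -/

theorem isOrdQuadSing_of_isOrdDoublePt (k : Type u) [Field k] (A : Type u) [CommRing A] [Algebra k A] [IsLocalRing A]
    (h : Curv2.IsOrdDoublePt k A) : VanCyc.IsOrdQuadSing k A 1 := by
  obtain ⟨e, he⟩ := h
  exact ⟨_, ordQuadSeries_XY k, ⟨AlgEquiv.ofRingEquiv (f := e) he⟩⟩

theorem isOrdQuadPt_of_isNode {k : Type u} [Field k] [IsAlgClosed k] {Y : Scheme.{u}}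
    (g : Y ⟶ Spec (CommRingCat.of k)) [LocallyOfFiniteType g] (y : Y) (h : @Curv2.IsNode k _ Y ⟨g⟩ y) :
    VanCyc.IsOrdQuadPt (VanCyc.resHom g y) 1 := by
  let _ : Y.Over (Spec (CommRingCat.of k)) := ⟨g⟩
  have hft : LocallyOfFiniteType (Y ↘ Spec (CommRingCat.of k)) := ‹LocallyOfFiniteType g›
  have h1 := (Groth.Agent.CurvesB.Node.isOrdDoublePt_iff g y).2 ((Groth.Agent.CurvesB.Node.isNode_iff_resFS k Y y).1 h)
  apply Groth.Agent.Lefpen.H370.OrdQuadConv.isOrdQuadPt_of_isOrdQuadSing
  exact @isOrdQuadSing_of_isOrdDoublePt k _ (Y.presheaf.stalk y) _ (@Curv2.stalkAlgebra k _ Y ⟨g⟩ y) _ h1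

/-- At-worst-nodal families over the spectrum of a field are at-worst-nodal curves. -/
theorem atWorstNodal_of_family {k : Type u} [Field k] {X : Scheme.{u}} (p : X ⟶ Spec (CommRingCat.of k))
    (hp : Curv2.IsNodalFamily p) : @Curv2.AtWorstNodal k _ X ⟨p⟩ := by
  let s : ↥(Spec (CommRingCat.of k)) := IsLocalRing.closedPoint k
  obtain ⟨φ, hφ⟩ := Spec.map_surjective ((Spec (CommRingCat.of k)).fromSpecResidueField s)
  let _ : Algebra k ((Spec (CommRingCat.of k)).residueField s) := φ.hom.toAlgebra
  have H : IsPullback (p.fiberι s) (p.fiberToSpecResidueField s) p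
      (Spec.map (CommRingCat.ofHom (algebraMap k ((Spec (CommRingCat.of k)).residueField s)))) := by
    have H0 : IsPullback (p.fiberι s) (p.fiberToSpecResidueField s) p
      ((Spec (CommRingCat.of k)).fromSpecResidueField s) := IsPullback.of_hasPullback _ _
    rw [← hφ] at H0
    exact H0
  let _ : X.Over (Spec (CommRingCat.of k)) := ⟨p⟩
  let _ : (p.fiber s).Over (Spec (CommRingCat.of ((Spec (CommRingCat.of k)).residueField s))) :=
    ⟨p.fiberToSpecResidueField s⟩
  have hlfp : LocallyOfFinitePresentation (X ↘ Spec (CommRingCat.of k)) := hp.2.1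
  exact Groth.Agent.CurvesB.NodalDescent.atWorstNodal_of_isPullback k ((Spec (CommRingCat.of k)).residueField s)
    (p.fiberι s) H (Groth.Agent.Sga7.H591.GeoFib.pure p hp) (hp.2.2 s).2

/-! ### The hypotheses of the Picard-Lefschetz formula -/

/-- A smooth nodal family is smooth of relative dimension one. -/
theorem smoothRel_of_smooth {X S : Scheme.{u}} (p : X ⟶ S) (hp : Curv2.IsNodalFamily p) [Smooth p] :
    SmoothOfRelativeDimension 1 p := by
  have h1 := Groth.Agent.Sga7.H591.GeoFib.smoothRel p hp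
  have h2 : p.smoothLocus = ⊤ := Scheme.Hom.smoothLocus_eq_top_iff.2 inferInstance
  rw [h2] at h1
  have h3 : p = (Scheme.topIso X).inv ≫ ((⊤ : X.Opens).ι ≫ p) := by
    rw [← Scheme.topIso_hom, Iso.inv_hom_id_assoc]
  rw [h3]
  have hloc : IsZariskiLocalAtSource (@SmoothOfRelativeDimension.{u} 1) :=
    HasRingHomProperty.instIsZariskiLocalAtSource (P := @SmoothOfRelativeDimension.{u} 1)
  exact IsZariskiLocalAtSource.comp (P := @SmoothOfRelativeDimension 1) h1 _

/-- The nodal curve over an algebraically closed field: finitely many ordinary quadratic points, smooth outside. -/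
theorem exists_sing {k : Type u} [Field k] [IsAlgClosed k] {X : Scheme.{u}} (g : X ⟶ Spec (CommRingCat.of k))
    [IsProper g] (hg : Curv2.IsNodalFamily g) :
    ∃ Sing : Finset X, (∀ x ∈ Sing, IsClosed ({x} : Set X)) ∧
      (∀ x ∈ Sing, VanCyc.IsOrdQuadPt (VanCyc.resHom g x) 1) ∧
      ∃ U : X.Opens, (∀ x : X, x ∉ Sing → x ∈ U) ∧ SmoothOfRelativeDimension 1 (U.ι ≫ g) := by
  classical
  have hlfp : LocallyOfFinitePresentation g := hg.2.1
  let _ : X.Over (Spec (CommRingCat.of k)) := ⟨g⟩
  have hXn : IsLocallyNoetherian X := LocallyOfFiniteType.isLocallyNoetherian g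
  have hXc : CompactSpace X := QuasiCompact.compactSpace_of_compactSpace g
  have hXN : IsNoetherian X := {}
  have hXs : NoetherianSpace X := inferInstance
  have hpure := Groth.Agent.Sga7.H591.GeoFib.pure g hg
  have hdim : topologicalKrullDim X ≤ 1 := by
    rw [Groth.Agent.VarietyB.DimTop.topologicalKrullDim_eq_iSup_irreducibleComponents]
    exact iSup_le fun Z => (hpure Z.1 Z.2).le
  have hdense := Groth.Agent.Sga7.H591.GeoFib.dense_smoothLocus g hg
  have hU : ∀ C ∈ irreducibleComponents X, ((g.smoothLocus : Set X) ∩ C).Nonempty := by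
    intro C hC
    obtain ⟨O, hO, hne, hle⟩ := NoetherianSpace.exists_isOpen_nonempty_subset_irreducibleComponent C hC
    obtain ⟨x, hx1, hx2⟩ := hdense.inter_open_nonempty O hO hne
    exact ⟨x, hx2, hle hx1⟩
  obtain ⟨hfin, hcl⟩ := Groth.Agent.Etcore.CurveTop.compl_finite X hdim g.smoothLocus hU
  have hnod := atWorstNodal_of_family g hg
  refine ⟨hfin.toFinset, fun x hx => hcl x (by simpa using hx), fun x hx => ?_, g.smoothLocus, fun x hx => ?_,
    Groth.Agent.Sga7.H591.GeoFib.smoothRel g hg⟩
  · have hx' : x ∉ g.smoothLocus := by simpa using hx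
    rcases hnod x (hcl x hx') with ⟨V, hxV, hV⟩ | h
    · have hV' : Smooth (V.ι ≫ g) := hV
      exact absurd (Groth.Agent.VarietyA.SmoothLocusSch.le_smoothLocus g V hxV) hx'
    · exact isOrdQuadPt_of_isNode g x h
  · by_contra h
    exact hx (by simpa using h)

section trait

variable (R : Type u) [CommRing R] [IsLocalRing R] [IsAlgClosed (IsLocalRing.ResidueField R)]
  {X : Scheme.{u}} (p : X ⟶ Spec (CommRingCat.of R)) [IsProper p] (hp : Curv2.IsNodalFamily p)

include hp in
/-- The special fibre satisfies the hypotheses of the Picard-Lefschetz formula. -/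
theorem exists_sing_spFib : ∃ Sing : Finset ↥(VanCyc.spFib R p),
    (∀ x ∈ Sing, IsClosed ({x} : Set ↥(VanCyc.spFib R p))) ∧
    (∀ x ∈ Sing, VanCyc.IsOrdQuadPt (VanCyc.resHom (VanCyc.spStr R p) x) 1) ∧
    ∃ U : (VanCyc.spFib R p).Opens, (∀ x : ↥(VanCyc.spFib R p), x ∉ Sing → x ∈ U) ∧
      SmoothOfRelativeDimension 1 (U.ι ≫ VanCyc.spStr R p) :=
  exists_sing (VanCyc.spStr R p) (Groth.Agent.Sga7.H591.GeoFib.isNodalFamily_of_isPullback p hp _ _ _
    (IsPullback.of_hasPullback p (VanCyc.toSk R)))

omit [IsLocalRing R] [IsAlgClosed (IsLocalRing.ResidueField R)] [IsProper p] in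
include hp in
theorem smoothRel_fib (A : Type u) [CommRing A] [Algebra R A] [Smooth (VanCyc.fibStr R p A)] :
    SmoothOfRelativeDimension 1 (VanCyc.fibStr R p A) :=
  smoothRel_of_smooth _ (Groth.Agent.Sga7.H591.GeoFib.isNodalFamily_of_isPullback p hp _ _ _
    (IsPullback.of_hasPullback p (VanCyc.toS R A)))

end trait

end K487.NodGeo
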