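import Groth.Agent.S3999
import Groth.Agent.Models.K487.KumPL
import Groth.Agent.Models.K487.NodGeo
import Groth.Agent.Sga7.H242.KummerGrp

/-!
# Level two of the inertia action on torsion line bundles of the geometric generic fibre of a nodal family
-/

set_option autoImplicit false
universe u

open CategoryTheory CategoryTheory.Limits AlgebraicGeometry
open Groth.Agent Groth.Agent.Grpsch Groth.Agent.Grpsch.PicGrp

namespace K487.PicPL

attribute [local instance] Groth.Agent.S0101.result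

variable (R K Ω : Type u) [CommRing R] [IsDomain R] [IsDiscreteValuationRing R] [Field K] [Algebra R K]
  [Field Ω] [Algebra K Ω] [Algebra R Ω] [IsScalarTower R K Ω] {X : Scheme.{u}} (p : X ⟶ Spec (CommRingCat.of R))

/-- The structure of `K`-scheme on the geometric generic fibre. -/
noncomputable def str : VanCyc.fib R p Ω ⟶ Spec (CommRingCat.of K) :=
  VanCyc.fibStr R p Ω ≫ Spec.map (CommRingCat.ofHom (algebraMap K Ω))

/-- The ring map `K → Γ(X_Ω, ⊤)`. -/
noncomputable def kk : K →+* Γ(VanCyc.fib R p Ω, ⊤) :=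
  (str R K Ω p).appTop.hom.comp (Scheme.ΓSpecIso (CommRingCat.of K)).inv.hom

variable {R K Ω}

omit [IsDomain R] [IsDiscreteValuationRing R] in
theorem galGeom_str (σ : Ω ≃ₐ[K] Ω) : VanCyc.galGeom p σ ≫ str R K Ω p = str R K Ω p := by
  have h1 : VanCyc.galGeom p σ ≫ VanCyc.fibStr R p Ω =
      VanCyc.fibStr R p Ω ≫ Spec.map (CommRingCat.ofHom (σ : Ω →+* Ω)) := pullback.lift_snd _ _ _
  have h2 : Spec.map (CommRingCat.ofHom (σ : Ω →+* Ω)) ≫ Spec.map (CommRingCat.ofHom (algebraMap K Ω)) =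
      Spec.map (CommRingCat.ofHom (algebraMap K Ω)) := by
    rw [← Spec.map_comp, ← CommRingCat.ofHom_comp]
    congr 2
    ext x
    simp
  rw [str, reassoc_of% h1, h2]

omit [IsDomain R] [IsDiscreteValuationRing R] in
theorem kk_gal (σ : Ω ≃ₐ[K] Ω) :
    kk R K Ω p = (VanCyc.galGeom p σ).appTop.hom.comp (kk R K Ω p) := by
  have h1 : (str R K Ω p).appTop = (str R K Ω p).appTop ≫ (VanCyc.galGeom p σ).appTop := by
    have h2 := Scheme.Hom.comp_appTop (VanCyc.galGeom p σ) (str R K Ω p)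
    rw [galGeom_str p σ] at h2
    exact h2
  have h3 := congrArg (fun φ => φ.hom.comp (Scheme.ΓSpecIso (CommRingCat.of K)).inv.hom) h1
  exact h3

/-- **Level two on torsion line bundles**. -/
theorem main (hR : EtCoh.IsStrictlyHenselianLocalRing R) [IsAlgClosed (IsLocalRing.ResidueField R)]
    [IsFractionRing R K] [IsSepClosure K Ω] [IsProper p] (hp : Curv2.IsNodalFamily p)
    [Smooth (VanCyc.fibStr R p K)] (N : ℕ) (hN : IsUnit (N : R)) (σ τ : Ω ≃ₐ[K] Ω)
    (c : Pic (VanCyc.fib R p Ω)) (hc : c ^ N = 1) :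
    pull (VanCyc.galGeom p σ) (pull (VanCyc.galGeom p τ) c / c) = pull (VanCyc.galGeom p τ) c / c := by
  have hflat : Flat p := hp.1
  obtain ⟨Sing, hSc, hSq, U, hU, hUs⟩ := NodGeo.exists_sing_spFib R p hp
  have hη := NodGeo.smoothRel_fib R p hp K
  have h0 := Groth.Agent.S3999.result R K Ω hR p 1 hη Sing hSc hSq U hU hUs N hN odd_one σ τ
  obtain ⟨hh, hs⟩ := id hR
  obtain ⟨ζ, hζ⟩ := Groth.Agent.Sga7.H242.KummerGrp.exists_primitiveRoot (C := R) N hN
  have hζ' : IsPrimitiveRoot (algebraMap R K ζ) N := hζ.map_of_injective (IsFractionRing.injective R K)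
  have hN0 : N ≠ 0 := by
    rintro rfl
    simp at hN
  have : NeZero N := ⟨hN0⟩
  have hNK : (N : K) ≠ 0 := by
    have h1 := hN.map (algebraMap R K)
    rw [map_natCast] at h1
    exact h1.ne_zero
  exact KumPL.main hζ' (kk R K Ω p) hNK (VanCyc.jA R p Ω) (VanCyc.galGeom p σ) (VanCyc.galGeom p τ)
    (VanCyc.galGeom_jA p σ) (VanCyc.galGeom_jA p τ) (kk_gal p σ) (kk_gal p τ)
    (KumPL.conv _ _ _ _ _ _ h0) c hc

end K487.PicPL
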